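import Groth.Agent.Lib.Helper19.FibQf.FldRel
import Groth.Agent.Lib.Helper19.FldSp.FibreDim
import Groth.Agent.Lib.Helper16.Sch.QFCodim

/-!
# Quasi-finiteness at points of a fibre, in terms of the fibre over a field point
-/

set_option autoImplicit false
set_option linter.style.haveILetI false
universe u
open CategoryTheory CategoryTheory.Limits AlgebraicGeometry MorphismProperty TopologicalSpace
open AlgSp Groth.Agent.Helper15 Groth.Agent.Helper16.AS

namespace Groth.Agent.Helper19.FibQf

open Groth.Agent.Helper14 Groth.Agent.Helper19.FldSp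

variable {S : Scheme.{u}} {X Y : Sp S} (hX : IsAlgSpace X) (hY : IsAlgSpace Y) (f : X ⟶ Y)
  (hf : LocP @LocallyOfFiniteType f) (k : FieldPt Y)
  {Xk : Sp S} {fst : Xk ⟶ X} {snd : Xk ⟶ (yon S).obj k.pt} (hsq : IsPullback fst snd f k.toHom)

include hX hY hsq in
theorem isAlgSpace_fibre : IsAlgSpace Xk :=
  isAlgSpace_of_isPullback hY.diag hX (IsAlgSpace.yon_obj _) hsq

include hX hY hf hsq in
theorem locP_lft_snd : LocP @LocallyOfFiniteType snd :=
  locP_of_isPullback goodP_lft srcEtLoc_lft hX hY (IsAlgSpace.yon_obj _) hsq hf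

include hsq in
/-- points of the fibre lie over the point -/
theorem map_map_fst (x' : Points Xk) : Points.map f (Points.map fst x') = Points.mk k := by
  rw [← Points.map_comp, hsq.w, Points.map_comp, map_toHom_eq]

include hsq in
/-- points over the point lift to the fibre -/
theorem exists_map_fst_eq (x : Points X) (hx : Points.map f x = Points.mk k) :
    ∃ x' : Points Xk, Points.map fst x' = x := by
  let pt : k.pt.left := IsLocalRing.closedPoint k.K
  have heq : Points.map f x = Points.map k.toHom (Points.ofScheme k.pt pt) := by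
    rw [hx, map_toHom_eq]
  obtain ⟨x', hx1, -⟩ := exists_point_of_isPullback hsq x _ heq
  exact ⟨x', hx1⟩

include hsq in
theorem range_map_fst : Set.range (Points.map fst) = Points.map f ⁻¹' {Points.mk k} := by
  ext x
  constructor
  · rintro ⟨x', rfl⟩
    exact map_map_fst f k hsq x'
  · intro hx
    exact exists_map_fst_eq f k hsq x hx

include hX hY hf hsq in
/-- relative dimension of `snd` at a chart point is the local dimension of the chart -/
theorem hasAtMor_snd_chart_iff {W : Over S} (a : (yon S).obj W ⟶ Xk) (ha : RepWith @Etale a)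
    (w : W.left) (R : WithBot ℕ∞ → Prop) :
    HasAtMor (fun _ _ h u => R (FlatMor.fibreDimAt h u)) snd (Points.ofPt a w) ↔
      R (FlatMor.localDim W.left w) := by
  have hlft := locP_lft_snd hX hY f hf k hsq
  let h : W ⟶ k.pt := (yon S).preimage (a ≫ snd)
  have comm : a ≫ snd = (yon S).map h ≫ 𝟙 _ := by simp [h]
  rw [Groth.Agent.Helper19.RelDim.hasAtMor_fibreDimAt_iff snd hlft R a (𝟙 _) h ha
    (repWith_id _ _) comm w]
  have e : FlatMor.fibreDimAt h.left w = FlatMor.localDim W.left w :=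
    fibreDimAt_eq_localDim_of_field (K := k.K) h.left w
  rw [e]

include hX hY hf hsq in
/-- relative dimension of `f` at the image of a point of the fibre -/
theorem hasAtMor_fst_iff (x' : Points Xk) (R : WithBot ℕ∞ → Prop) :
    HasAtMor (fun _ _ h u => R (FlatMor.fibreDimAt h u)) f (Points.map fst x') ↔
      HasAtMor (fun _ _ h u => R (FlatMor.fibreDimAt h u)) snd x' := by
  have hT : IsAlgSpace ((yon S).obj k.pt) := IsAlgSpace.yon_obj _
  have hXk := isAlgSpace_fibre hX hY f k hsq
  constructor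
  · exact Groth.Agent.Helper19.RelDim.hasAtMor_baseChange hX hY hT f k.toHom fst snd hsq hf x' R
  · intro hs
    obtain ⟨U₁, V₁, a₁, b₁, h₁, u₁, ha₁, hb₁, comm₁, hxu₁, -⟩ :=
      Trdeg.exists_chart_at hX hY f hf (Points.map fst x')
    have hfd : HasAtMor (fun _ _ h u => FlatMor.fibreDimAt h u = FlatMor.fibreDimAt h₁.left u₁) f
        (Points.map fst x') := ⟨U₁, V₁, a₁, b₁, h₁, u₁, ha₁, hb₁, comm₁, hxu₁, rfl⟩
    have hsd := Groth.Agent.Helper19.RelDim.hasAtMor_baseChange hX hY hT f k.toHom fst snd hsq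
      hf x' (fun t => t = FlatMor.fibreDimAt h₁.left u₁) hfd
    obtain ⟨W, a, hae, has⟩ := hXk.atlas
    obtain ⟨w, hw⟩ := surjective_ofPt a has x'
    rw [← hw] at hsd hs
    have e1 := (hasAtMor_snd_chart_iff hX hY f hf k hsq a hae w
      (fun t => t = FlatMor.fibreDimAt h₁.left u₁)).1 hsd
    have e2 := (hasAtMor_snd_chart_iff hX hY f hf k hsq a hae w R).1 hs
    have e1' : FlatMor.localDim W.left w = FlatMor.fibreDimAt h₁.left u₁ := e1
    rw [e1'] at e2
    exact ⟨U₁, V₁, a₁, b₁, h₁, u₁, ha₁, hb₁, comm₁, hxu₁, e2⟩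

include hX hY hf hsq in
/-- local dimension zero of the fibre at a point and relative dimension zero at its image -/
theorem hasAt_localDim_iff_hasAtMor_fibreDimAt (x' : Points Xk) :
    HasAt (fun U u => FlatMor.localDim ↥U u = 0) Xk x' ↔
      HasAtMor (fun _ _ h u => FlatMor.fibreDimAt h u = 0) f (Points.map fst x') := by
  have hXk := isAlgSpace_fibre hX hY f k hsq
  obtain ⟨W, a, hae, has⟩ := hXk.atlas
  obtain ⟨w, hw⟩ := surjective_ofPt a has x'
  rw [hasAtMor_fst_iff hX hY f hf k hsq x' (fun t => t = 0), ← hw,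
    hasAtMor_snd_chart_iff hX hY f hf k hsq a hae w (fun t => t = 0)]
  constructor
  · intro h
    exact hasAt_forall_chart (etInv_localDim 0) _ h W a w hae rfl
  · intro h
    exact ⟨W, a, w, hae, rfl, h⟩

include hf in
/-- relative dimension zero at a point is quasi-finiteness at the point -/
theorem hasAtMor_fibreDimAt_zero_iff_qf (x : Points X) :
    HasAtMor (fun _ _ h u => FlatMor.fibreDimAt h u = 0) f x ↔
      HasAtMor (fun U _ h u => ∃ W : U.Opens, u ∈ W ∧ LocallyQuasiFinite (W.ι ≫ h) ∧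
        LocallyOfFiniteType (W.ι ≫ h)) f x := by
  constructor
  · rintro ⟨U, V, a, b, h, u, ha, hb, comm, hxu, hd⟩
    haveI : LocallyOfFiniteType h.left := hf a b h ha hb comm
    have hqf : h.left.QuasiFiniteAt u := (FibDim.fibreDimAt_eq_zero_iff_quasiFiniteAt h.left u).1 hd
    obtain ⟨W, huW, hW1, hW2⟩ :=
      (Groth.Agent.Helper16.QFCodim.quasiFiniteAt_iff_exists_opens h.left u).1 hqf
    exact ⟨U, V, a, b, h, u, ha, hb, comm, hxu, W, huW, hW1, hW2⟩
  · rintro ⟨U, V, a, b, h, u, ha, hb, comm, hxu, W, huW, hW1, hW2⟩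
    haveI : LocallyOfFiniteType h.left := hf a b h ha hb comm
    have hqf : h.left.QuasiFiniteAt u :=
      (Groth.Agent.Helper16.QFCodim.quasiFiniteAt_iff_exists_opens h.left u).2 ⟨W, huW, hW1, hW2⟩
    exact ⟨U, V, a, b, h, u, ha, hb, comm, hxu,
      (FibDim.fibreDimAt_eq_zero_iff_quasiFiniteAt h.left u).2 hqf⟩

/-- relative dimension at most zero is relative dimension zero -/
theorem hasAtMor_fibreDimAt_le_zero_iff (x : Points X) :
    HasAtMor (fun _ _ h u => FlatMor.fibreDimAt h u ≤ ((0 : ℕ) : WithBot ℕ∞)) f x ↔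
      HasAtMor (fun _ _ h u => FlatMor.fibreDimAt h u = 0) f x := by
  constructor
  · rintro ⟨U, V, a, b, h, u, ha, hb, comm, hxu, hd⟩
    refine ⟨U, V, a, b, h, u, ha, hb, comm, hxu, le_antisymm ?_ ?_⟩
    · simpa using hd
    · exact FibreGeneric.zero_le_localDim _
  · rintro ⟨U, V, a, b, h, u, ha, hb, comm, hxu, hd⟩
    refine ⟨U, V, a, b, h, u, ha, hb, comm, hxu, ?_⟩
    change FlatMor.fibreDimAt h.left u ≤ _
    rw [hd]; simp

include hX hY hf hsq in
/-- (7) ⇔ (8) at a point -/
theorem hasAt_localDim_iff_qf (x' : Points Xk) :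
    HasAt (fun U u => FlatMor.localDim ↥U u = 0) Xk x' ↔
      HasAtMor (fun U _ h u => ∃ W : U.Opens, u ∈ W ∧ LocallyQuasiFinite (W.ι ≫ h) ∧
        LocallyOfFiniteType (W.ι ≫ h)) f (Points.map fst x') := by
  rw [hasAt_localDim_iff_hasAtMor_fibreDimAt hX hY f hf k hsq x',
    hasAtMor_fibreDimAt_zero_iff_qf f hf]

include hX hY hf hsq in
/-- (7) ⇔ (8) globally on the fibre -/
theorem dim_eq_zero_iff_qf (hy : Points.mk k ∈ Set.range (Points.map f)) :
    AlgSp.dim Xk = 0 ↔
      ∀ x : Points X, Points.map f x = Points.mk k →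
        HasAtMor (fun U _ h u => ∃ W : U.Opens, u ∈ W ∧ LocallyQuasiFinite (W.ι ≫ h) ∧
          LocallyOfFiniteType (W.ι ≫ h)) f x := by
  obtain ⟨hbot, hle⟩ := dim_fibre hX hY f hf (Points.mk k) k rfl Xk fst snd hsq
  have hne : AlgSp.dim Xk ≠ ⊥ := fun h => (hbot.1 h) hy
  have h0 := hle 0
  constructor
  · intro hd x hx
    rw [← hasAtMor_fibreDimAt_zero_iff_qf f hf, ← hasAtMor_fibreDimAt_le_zero_iff]
    exact h0.1 (by rw [hd]; simp) x hx
  · intro H
    apply le_antisymm
    · have := h0.2 (fun x hx => by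
        rw [hasAtMor_fibreDimAt_le_zero_iff, hasAtMor_fibreDimAt_zero_iff_qf f hf]
        exact H x hx)
      simpa using this
    · obtain ⟨d, hd⟩ := WithBot.ne_bot_iff_exists.1 hne
      rw [← hd]
      exact WithBot.coe_le_coe.2 zero_le

end Groth.Agent.Helper19.FibQf
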