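import Groth.Agent.Lib.Helper19.FibQf.Preimm
import Groth.Agent.Lib.Helper19.FibQf.Qf
import Groth.Agent.Lib.Helper15.AlgSpFieldCover
import Groth.Agent.Lib.Helper15.AlgSpDecent3
import Groth.Agent.Lib.Helper16.AlgSp.LocalST

/-!
# The fibre over a point represented by a quasi-compact monomorphism embeds topologically
-/

set_option autoImplicit false
set_option linter.style.haveILetI false
universe u
open CategoryTheory CategoryTheory.Limits AlgebraicGeometry MorphismProperty TopologicalSpace
open AlgSp Groth.Agent.Helper15 Groth.Agent.Helper16.AS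

namespace Groth.Agent.Helper19.FibQf

variable {S : Scheme.{u}}

/-- points of an étale chart over a point with a quasi-compact representative are isolated in
their fibre -/
theorem exists_open_inter_fibre_eq_singleton {Y : Sp S} (k : FieldPt Y)
    (hqc : RepWith @QuasiCompact k.toHom) {V : Over S} (b : (yon S).obj V ⟶ Y)
    (hbe : RepWith @Etale b) (v : V.left) (hv : Points.ofPt b v = Points.mk k) :
    ∃ M : Set V.left, IsOpen M ∧ v ∈ M ∧ M ∩ (Points.ofPt b ⁻¹' {Points.mk k}) = {v} := by
  obtain ⟨_, ⟨V₀, hV₀, rfl⟩, hvV₀, -⟩ :=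
    (V.left.isBasis_affineOpens).exists_subset_of_mem_open (Set.mem_univ v) isOpen_univ
  let V₀' : V.left.Opens := V₀
  let V' : Over S := Over.mk (V₀'.ι ≫ V.hom)
  let j₀ : V' ⟶ V := Over.homMk V₀'.ι rfl
  haveI : IsAffine V'.left := hV₀
  have hj₀ : Etale j₀.left := (inferInstance : Etale V₀'.ι)
  have hb₀ : RepWith @Etale ((yon S).map j₀ ≫ b) :=
    (RepWith @Etale).comp_mem _ _ ((repWith_yon_map_iff _ j₀).2 hj₀) hbe
  have hfin₀ := finite_fibre_of_repWith_quasiCompact_fieldPt k hqc ((yon S).map j₀ ≫ b) hb₀
  refine exists_open_inter_eq_singleton _ v hv (V₀' : Set V.left) V₀'.2 hvV₀ ?_ ?_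
  · refine (hfin₀.image V₀'.ι).subset ?_
    rintro w ⟨hwB, hwV⟩
    refine ⟨⟨w, hwV⟩, ?_, rfl⟩
    change Points.ofPt ((yon S).map j₀ ≫ b) ⟨w, hwV⟩ = _
    rw [ofPt_comp_yon_map]
    exact hwB
  · intro v' hv' hs
    exact (eq_of_specializes_of_ofPt_eq_of_finite_fibres (Points.mk k)
      (fun W c hW hc => by
        haveI := hW
        exact finite_fibre_of_repWith_quasiCompact_fieldPt k hqc c hc) b hbe v v' hv hv' hs).symm

variable {X Y : Sp S} (hX : IsAlgSpace X) (hY : IsAlgSpace Y) (f : X ⟶ Y) (k : FieldPt Y)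
  (hqc : RepWith @QuasiCompact k.toHom) [Mono k.toHom]
  {X₀ : Sp S} {fst : X₀ ⟶ X} {snd : X₀ ⟶ (yon S).obj k.pt} (hsq : IsPullback fst snd f k.toHom)

include hqc in
/-- the base change of a quasi-compact monomorphic field point to an étale chart is a
preimmersion -/
theorem isPreimmersion_snd_fieldPt {V : Over S} (b : (yon S).obj V ⟶ Y) (hbe : RepWith @Etale b) :
    IsPreimmersion (hqc.rep.snd b).left := by
  have repk := hqc.rep
  have sqE := repk.isPullback' b
  haveI hmono : Mono (repk.snd b).left :=
    (repWith_monomorphisms_of_mono k.toHom repk).property_snd b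
  have he₁ : Etale (repk.fst' b).left := hbe.property k.toHom _ _ sqE.flip
  have hfib : ∀ e : (repk.pullback b).left,
      Points.ofPt b ((repk.snd b).left e) = Points.mk k := by
    intro e
    rw [← ofPt_comp_yon_map, ← sqE.w, ofPt_comp_yon_map, Points.ofPt_toHom]
  refine isPreimmersion_of_mono_of_isField _ (fun e => ?_) (fun e => ?_)
  · exact isField_stalk_of_flat_surjective_field k.K k.str (𝟙 _)
      (locP_mono smooth_le_flat (locP_smooth_id (IsAlgSpace.yon_obj _)))
      (fun y => ⟨y, by simp⟩) ((yon S).map (repk.fst' b)) ((repWith_yon_map_iff _ _).2 he₁) e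
  · obtain ⟨M, hMo, hvM, hMB⟩ :=
      exists_open_inter_fibre_eq_singleton k hqc b hbe ((repk.snd b).left e) (hfib e)
    refine ⟨M, hMo, ?_⟩
    ext e'
    simp only [Set.mem_preimage, Set.mem_singleton_iff]
    constructor
    · intro he'
      have : (repk.snd b).left e' ∈ M ∩ (Points.ofPt b ⁻¹' {Points.mk k}) := ⟨he', hfib e'⟩
      rw [hMB] at this
      exact (repk.snd b).left.injective this
    · rintro rfl
      exact hvM

include hX hY hqc hsq in
/-- the fibre over a point with a quasi-compact monomorphic representative embeds into the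
space of points -/
theorem isEmbedding_map_fst : Topology.IsEmbedding (Points.map fst) := by
  obtain ⟨V, b, hbe, hbs⟩ := hY.atlas
  obtain ⟨U, a, h, hae, has, comm⟩ := exists_chart_lift hX f b hbe hbs
  have repk := hqc.rep
  have sqE := repk.isPullback' b
  have hpre : IsPreimmersion (repk.snd b).left := isPreimmersion_snd_fieldPt k hqc b hbe
  -- the chart of the fibre
  have repfst : Representable fst := MorphismProperty.of_isPullback hsq.flip repk
  have sqU := repfst.isPullback a
  have ha₀e : RepWith @Etale (repfst.fst a) := (RepWith @Etale).of_isPullback sqU.flip hae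
  have ha₀s : RepWith @Surjective (repfst.fst a) :=
    (RepWith @Surjective).of_isPullback sqU.flip has
  -- the map to `E`
  have hw : (repfst.fst a ≫ snd) ≫ k.toHom = (yon S).map (repfst.snd a ≫ h) ≫ b := by
    rw [Category.assoc, ← hsq.w, ← Category.assoc, sqU.w, Category.assoc, comm,
      Functor.map_comp, Category.assoc]
  obtain ⟨ε, hε⟩ := (yon S).map_surjective (sqE.lift _ _ hw)
  have hε1 : (yon S).map ε ≫ (yon S).map (repk.fst' b) = repfst.fst a ≫ snd := by
    rw [hε, sqE.lift_fst]
  have hε2 : (yon S).map ε ≫ (yon S).map (repk.snd b) =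
      (yon S).map (repfst.snd a) ≫ (yon S).map h := by
    rw [hε, sqE.lift_snd, Functor.map_comp]
  have big : IsPullback ((yon S).map ε ≫ (yon S).map (repk.fst' b)) ((yon S).map (repfst.snd a))
      k.toHom ((yon S).map h ≫ b) := by
    have := sqU.paste_horiz hsq.flip
    rwa [comm, ← hε1] at this
  have left : IsPullback ((yon S).map ε) ((yon S).map (repfst.snd a)) ((yon S).map (repk.snd b))
      ((yon S).map h) := IsPullback.of_right big hε2 sqE
  have hcomm : ε ≫ repk.snd b = repfst.snd a ≫ h := by
    apply (yon S).map_injective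
    rw [Functor.map_comp, Functor.map_comp, hε2]
  have leftO : IsPullback ε (repfst.snd a) (repk.snd b) h := IsPullback.of_map (yon S) hcomm left
  have leftS := leftO.map (Over.forget S)
  have hπ : IsPreimmersion (repfst.snd a).left :=
    MorphismProperty.of_isPullback (P := @IsPreimmersion) leftS hpre
  -- descent
  have hcommP : ∀ p₀ : (repfst.pullback a).left,
      Points.map fst (Points.ofPt (repfst.fst a) p₀) = Points.ofPt a ((repfst.snd a).left p₀) := by
    intro p₀
    rw [Points.map_ofPt, sqU.w, ofPt_comp_yon_map]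
  have hpb : ∀ (t₀ : Points X₀) (p : U.left), Points.map fst t₀ = Points.ofPt a p →
      ∃ p₀ : (repfst.pullback a).left, Points.ofPt (repfst.fst a) p₀ = t₀ ∧
        (repfst.snd a).left p₀ = p := by
    intro t₀ p hp
    rw [Points.ofPt_eq_map_ofScheme] at hp
    obtain ⟨z, hz1, hz2⟩ := exists_point_of_isPullback sqU t₀ _ hp
    obtain ⟨p₀, rfl⟩ := (Points.schemeEquiv (repfst.pullback a)).surjective z
    refine ⟨p₀, ?_, ?_⟩
    · rw [Points.ofPt_eq_map_ofScheme]; exact hz1
    · have h2 : Points.toScheme U (Points.map ((yon S).map (repfst.snd a))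
          (Points.ofScheme _ p₀)) = Points.toScheme U (Points.ofScheme U p) :=
        congrArg (Points.toScheme U) hz2
      rw [← Points.ofPt_eq_map_ofScheme, Points.toScheme_ofPt, Points.toScheme_ofScheme] at h2
      exact h2
  refine ⟨isInducing_of_chart (repfst.snd a).left (Points.ofPt (repfst.fst a)) (Points.ofPt a)
    (Points.map fst) hcommP (surjective_ofPt _ ha₀s) (Points.continuous_ofPt _)
    (isOpenMap_ofPt_of_etale a hae) (Points.continuous_map fst)
    (repfst.snd a).left.isEmbedding.isInducing hpb, ?_⟩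
  intro t₀ t₀' heq
  obtain ⟨p₀, rfl⟩ := surjective_ofPt _ ha₀s t₀
  have h1 : Points.map fst t₀' = Points.ofPt a ((repfst.snd a).left p₀) := by
    rw [← heq, hcommP]
  obtain ⟨p₀', hp₀', hp₀''⟩ := hpb t₀' _ h1
  have : p₀' = p₀ := (repfst.snd a).left.isEmbedding.injective hp₀''
  rw [← hp₀', this]

end Groth.Agent.Helper19.FibQf
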