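import Groth.Agent.Lib.Helper19.FldSp.Discrete

/-!
# Algebraic spaces locally of finite type over a field point of the base

Generalisation of `Helper19/FldSp/{Points,Discrete}` from algebraic spaces over `Spec k` to sheaves
`X` over an arbitrary base `S` with a morphism `q : X ⟶ h_{Spec K}` locally of finite type.
-/

set_option autoImplicit false
set_option linter.style.haveILetI false
universe u
open CategoryTheory CategoryTheory.Limits AlgebraicGeometry MorphismProperty TopologicalSpace
open AlgSp Groth.Agent.Helper15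

namespace Groth.Agent.Helper19.FibQf

open Groth.Agent.Helper14 Groth.Agent.Helper19.FldSp

variable {S : Scheme.{u}} {K : Type u} [Field K] {str : Spec (CommRingCat.of K) ⟶ S} {X : Sp S}
  (q : X ⟶ (yon S).obj (Over.mk str))

/-- the structure morphism of a chart -/
noncomputable def toBase {U : Over S} (a : (yon S).obj U ⟶ X) : U ⟶ Over.mk str :=
  (yon S).preimage (a ≫ q)

/-- the structure morphism of a chart, as a morphism of schemes to `Spec K` -/
noncomputable def gmap {U : Over S} (a : (yon S).obj U ⟶ X) :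
    U.left ⟶ Spec (CommRingCat.of K) := (toBase q a).left

theorem chart_comm {U : Over S} (a : (yon S).obj U ⟶ X) :
    a ≫ q = (yon S).map (toBase q a) ≫ 𝟙 _ := by
  simp [toBase]

include q

variable (hq : LocP @LocallyOfFiniteType q)
include hq

/-- étale charts of `X` are locally of finite type over `K` -/
theorem chart_lft {U : Over S} (a : (yon S).obj U ⟶ X) (ha : RepWith @Etale a) :
    LocallyOfFiniteType (gmap q a) :=
  hq a (𝟙 _) (toBase q a) ha (repWith_id _ _) (chart_comm q a)

omit hq in
/-- the transcendence degree over `K` of a point of `X` is well defined -/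
theorem resTrdeg_eq_of_ofPt_eq {U U' : Over S}
    (a : (yon S).obj U ⟶ X) (ha : RepWith @Etale a)
    (a' : (yon S).obj U' ⟶ X) (ha' : RepWith @Etale a')
    (u : U.left) (u' : U'.left) (h : Points.ofPt a u = Points.ofPt a' u') :
    Dual3.resTrdeg (gmap q a) u = Dual3.resTrdeg (gmap q a') u' :=
  Trdeg.hasAtMor_resTrdeg_unique q (Points.ofPt a u) _ _
    ⟨U, _, a, 𝟙 _, toBase q a, u, ha, repWith_id _ _, chart_comm q a, rfl, rfl⟩
    ⟨U', _, a', 𝟙 _, toBase q a', u', ha', repWith_id _ _, chart_comm q a', h.symm, rfl⟩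

/-- no nontrivial specializations in the fibres of `|U| → |X|` -/
theorem eq_of_specializes_of_ofPt_eq {U : Over S}
    (a : (yon S).obj U ⟶ X) (ha : RepWith @Etale a)
    (u u' : U.left) (he : Points.ofPt a u' = Points.ofPt a u) (hs : u' ⤳ u) : u' = u := by
  haveI := chart_lft q hq a ha
  exact eq_of_specializes_of_resTrdeg_eq (gmap q a) hs
    (resTrdeg_eq_of_ofPt_eq q a ha a ha u' u he)

/-- over an open point of `|X|`, all points of a chart are open and closed -/
theorem isOpen_isClosed_chart_of_isOpen (x : Points X) (hx : IsOpen ({x} : Set (Points X)))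
    {U : Over S} (a : (yon S).obj U ⟶ X) (ha : RepWith @Etale a) (u : U.left)
    (hu : Points.ofPt a u = x) :
    IsOpen ({u} : Set U.left) ∧ IsClosed ({u} : Set U.left) := by
  haveI := chart_lft q hq a ha
  haveI : IsLocallyNoetherian U.left := LocallyOfFiniteType.isLocallyNoetherian (gmap q a)
  let N : U.left.Opens := ⟨Points.ofPt a ⁻¹' {x}, hx.preimage (Points.continuous_ofPt a)⟩
  have huN : u ∈ N := hu
  obtain ⟨n₀, hn₀N, -, h0⟩ := Groth.Agent.Helper19.LocDim.exists_trdeg_zero (gmap q a) N u huN
  have h0' : Dual3.resTrdeg (gmap q a) n₀ = 0 := h0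
  have hcl : ∀ n ∈ N, IsClosed ({n} : Set U.left) := by
    intro n hn
    refine isClosed_singleton_of_resTrdeg_eq_zero (gmap q a) n ?_
    rw [resTrdeg_eq_of_ofPt_eq q a ha a ha n n₀ ((show Points.ofPt a n = x from hn).trans
      (show Points.ofPt a n₀ = x from hn₀N).symm)]
    exact h0'
  exact ⟨QFDiscrete.isOpen_singleton_of_forall_isClosed N hcl u huN, hcl u huN⟩

variable (hXa : IsAlgSpace X)
include hXa

/-- (3) ⇔ (2) -/
theorem isOpen_singleton_iff_closed_maximal (x : Points X) :
    IsOpen ({x} : Set (Points X)) ↔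
      (IsClosed ({x} : Set (Points X)) ∧ ∀ x' : Points X, x' ⤳ x → x' = x) := by
  obtain ⟨U, a, hae, has⟩ := hXa.atlas
  haveI := chart_lft q hq a hae
  haveI : IsLocallyNoetherian U.left := LocallyOfFiniteType.isLocallyNoetherian (gmap q a)
  haveI : JacobsonSpace U.left := LocallyOfFiniteType.jacobsonSpace (gmap q a)
  have hquot : Topology.IsQuotientMap (Points.ofPt a) :=
    (isOpenMap_ofPt_of_etale a hae).isQuotientMap (Points.continuous_ofPt a)
      (surjective_ofPt a has)
  constructor
  · intro hx
    refine ⟨?_, fun x' hx' => hx'.mem_open hx rfl⟩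
    rw [← hquot.isClosed_preimage]
    exact isClosed_of_forall_isOpen_isClosed _
      (fun w hw => isOpen_isClosed_chart_of_isOpen q hq x hx a hae w hw)
  · rintro ⟨hcl, hmax⟩
    have hWcl : IsClosed (Points.ofPt a ⁻¹' {x}) := hcl.preimage (Points.continuous_ofPt a)
    obtain ⟨u, hu⟩ := surjective_ofPt a has x
    obtain ⟨u₀, hs, -, h0⟩ := DimClosure.exists_specializes_trdeg_eq_zero (gmap q a) u
    have hu₀ : Points.ofPt a u₀ = x := hs.mem_closed hWcl hu
    have hcl₀ : IsClosed ({u₀} : Set U.left) :=
      isClosed_singleton_of_resTrdeg_eq_zero (gmap q a) u₀ h0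
    have hg : ∀ z : U.left, z ⤳ u₀ → z = u₀ := by
      intro z hz
      have h1 : Points.ofPt a z ⤳ Points.ofPt a u₀ := hz.map (Points.continuous_ofPt a)
      rw [hu₀] at h1
      have h2 := hmax _ h1
      exact eq_of_specializes_of_ofPt_eq q hq a hae u₀ z (h2.trans hu₀.symm) hz
    have hopen := isOpen_singleton_of_isClosed_of_generization u₀ hcl₀ hg
    have := isOpenMap_ofPt_of_etale a hae _ hopen
    rwa [Set.image_singleton, hu₀] at this

/-- (3) ⇔ (4) -/
theorem isOpen_singleton_iff_hasAt_localDim (x : Points X) :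
    IsOpen ({x} : Set (Points X)) ↔ HasAt (fun U u => FlatMor.localDim ↥U u = 0) X x := by
  constructor
  · intro hx
    obtain ⟨U, a, hae, has⟩ := hXa.atlas
    obtain ⟨u, hu⟩ := surjective_ofPt a has x
    exact ⟨U, a, u, hae, hu, FibDim.localDim_eq_zero_of_isOpen_singleton u
      (isOpen_isClosed_chart_of_isOpen q hq x hx a hae u hu).1⟩
  · rintro ⟨U', a', u', ha', hu', hd⟩
    haveI := chart_lft q hq a' ha'
    haveI : IsLocallyNoetherian U'.left := LocallyOfFiniteType.isLocallyNoetherian (gmap q a')
    have hopen := FibDim.isOpen_singleton_of_localDim_eq_zero u' hd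
    have := isOpenMap_ofPt_of_etale a' ha' _ hopen
    rwa [Set.image_singleton, hu'] at this

/-- (1) ⇔ (3) for decent spaces -/
theorem localDim_points_eq_zero_iff (hX : IsDecent X) (x : Points X) :
    FlatMor.localDim (Points X) x = 0 ↔ IsOpen ({x} : Set (Points X)) := by
  obtain ⟨U, a, hae, has⟩ := hXa.atlas
  obtain ⟨u, hu⟩ := surjective_ofPt a has x
  have e := DecentDim.localDim_chart_eq hXa hX a hae u
  rw [hu] at e
  rw [← e, isOpen_singleton_iff_hasAt_localDim q hq hXa x]
  constructor
  · intro h
    exact ⟨U, a, u, hae, hu, h⟩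
  · intro h
    exact hasAt_forall_chart (etInv_localDim 0) x h U a u hae hu

/-- if all points of all étale charts are open, `dim X = 0` -/
theorem dim_eq_zero_of_charts_discrete [Nonempty (Points X)]
    (h : ∀ (U : Over S) (a : (yon S).obj U ⟶ X), RepWith @Etale a → ∀ u : U.left,
        IsOpen ({u} : Set U.left)) : AlgSp.dim X = 0 := by
  apply le_antisymm
  · refine iSup_le (fun U => iSup_le (fun a => iSup_le (fun ha => ?_)))
    exact topDim_le_zero_of_forall_isOpen_singleton _ (h U a ha)
  · obtain ⟨U, a, hae, has⟩ := hXa.atlas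
    obtain ⟨x⟩ := ‹Nonempty (Points X)›
    obtain ⟨u, -⟩ := surjective_ofPt a has x
    haveI : Nonempty U.left := ⟨u⟩
    exact (topDim_nonneg_of_nonempty U.left).trans
      (le_iSup_of_le U (le_iSup_of_le a (le_iSup_of_le hae le_rfl)))

/-- (2) ⇔ (4) -/
theorem discrete_iff_dim_eq_zero [Nonempty (Points X)] :
    DiscreteTopology (Points X) ↔ AlgSp.dim X = 0 := by
  constructor
  · intro hd
    refine dim_eq_zero_of_charts_discrete q hq hXa (fun U a ha u => ?_)
    exact (isOpen_isClosed_chart_of_isOpen q hq (Points.ofPt a u) (isOpen_discrete _) a ha u rfl).1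
  · intro h0
    rw [discreteTopology_iff_isOpen_singleton]
    intro x
    rw [isOpen_singleton_iff_hasAt_localDim q hq hXa x]
    obtain ⟨U, a, hae, has⟩ := hXa.atlas
    obtain ⟨u, hu⟩ := surjective_ofPt a has x
    refine ⟨U, a, u, hae, hu, le_antisymm ?_ (FibreGeneric.zero_le_localDim u)⟩
    refine (FibreGeneric.localDim_le_dim u).trans ?_
    rw [← h0]
    exact le_iSup_of_le U (le_iSup_of_le a (le_iSup_of_le hae le_rfl))

/-- (3) ⇒ (2) for decent spaces -/
theorem discrete_of_topDim_eq_zero (hX : IsDecent X)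
    (h0 : topologicalKrullDim (Points X) = 0) : DiscreteTopology (Points X) := by
  rw [discreteTopology_iff_isOpen_singleton]
  intro x
  rw [← localDim_points_eq_zero_iff q hq hXa hX x]
  exact le_antisymm ((FibreGeneric.localDim_le_dim x).trans h0.le) (FibreGeneric.zero_le_localDim x)

/-- (1) ⇒ (4) for decent spaces -/
theorem dim_eq_zero_of_finite [Nonempty (Points X)] (hX : IsDecent X)
    (hfin : Finite (Points X)) : AlgSp.dim X = 0 := by
  refine dim_eq_zero_of_charts_discrete q hq hXa (fun U a ha u => ?_)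
  obtain ⟨_, ⟨O₀, hO, rfl⟩, huO, -⟩ :=
    (U.left.isBasis_affineOpens).exists_subset_of_mem_open (Set.mem_univ u) isOpen_univ
  let O : U.left.Opens := O₀
  let V : Over S := Over.mk (O.ι ≫ U.hom)
  let j : V ⟶ U := Over.homMk O.ι rfl
  haveI : IsAffine V.left := hO
  have hj : Etale j.left := (inferInstance : Etale O.ι)
  have hψ : RepWith @Etale ((yon _).map j ≫ a) :=
    (RepWith @Etale).comp_mem _ _ ((repWith_yon_map_iff _ j).2 hj) ha
  haveI := chart_lft q hq _ hψ
  haveI : JacobsonSpace V.left := LocallyOfFiniteType.jacobsonSpace (gmap q ((yon _).map j ≫ a))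
  haveI : Finite V.left := by
    have huniv : (Set.univ : Set V.left) = ⋃ x : Points X, Points.ofPt ((yon _).map j ≫ a) ⁻¹' {x} := by
      ext v; simp
    have : (Set.univ : Set V.left).Finite := by
      rw [huniv]
      exact Set.finite_iUnion (fun x => finite_fibre_of_isDecent hX x _ hψ)
    exact Set.finite_univ_iff.mp this
  haveI : DiscreteTopology V.left := inferInstance
  have h1 : IsOpen ({(⟨u, huO⟩ : V.left)} : Set V.left) := isOpen_discrete _
  have h2 := O.ι.isOpenEmbedding.isOpenMap _ h1
  have e : ({u} : Set U.left) = O.ι '' ({(⟨u, huO⟩ : V.left)} : Set V.left) := by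
    ext y
    constructor
    · rintro rfl
      exact ⟨⟨y, huO⟩, rfl, rfl⟩
    · rintro ⟨w, hw, rfl⟩
      rw [hw]
      rfl
  rw [e]
  exact h2

end Groth.Agent.Helper19.FibQf
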