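import Groth.Agent.Lib.Helper19.FibQf.Main

/-!
# The list of conditions on a whole fibre (S10444)
-/

set_option autoImplicit false
set_option linter.style.haveILetI false
universe u
open CategoryTheory CategoryTheory.Limits AlgebraicGeometry MorphismProperty TopologicalSpace
open AlgSp Groth.Agent.Helper15 Groth.Agent.Helper16.AS

namespace Groth.Agent.Helper19.FibQf

open Groth.Agent.Helper14 Groth.Agent.Helper19.FldSp

variable {S : Scheme.{u}} {X Y : Sp S} (hX : IsAlgSpace X) (hY : IsAlgSpace Y) (f : X ⟶ Y)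
  (hf : LocP @LocallyOfFiniteType f)

include hX hY hf in
theorem fibre_conditions (r : FieldPt Y) (hy : Points.mk r ∈ Set.range (Points.map f))
    {Xk : Sp S} {fst : Xk ⟶ X} {snd : Xk ⟶ (yon S).obj r.pt}
    (hsq : IsPullback fst snd f r.toHom) :
    (DiscreteTopology (Points Xk) ↔ AlgSp.dim Xk = 0) ∧
    (AlgSp.dim Xk = 0 ↔
      ∀ x : Points X, Points.map f x = Points.mk r → HasAtMor (fun U _ h u => ∃ W : U.Opens, u ∈ W ∧ LocallyQuasiFinite (W.ι ≫ h) ∧ LocallyOfFiniteType (W.ι ≫ h)) f x) ∧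
    (DiscreteTopology (Points Xk) → topologicalKrullDim (Points Xk) = 0) ∧
    (IsDecent Xk → topologicalKrullDim (Points Xk) = 0 →
      DiscreteTopology (Points Xk)) ∧
    (IsDecent Xk → Finite (Points Xk) → DiscreteTopology (Points Xk)) ∧
    (Finite (Points Xk) → (Points.map f ⁻¹' {Points.mk r}).Finite) ∧
    (DiscreteTopology ↥(Points.map f ⁻¹' {Points.mk r}) → topologicalKrullDim ↥(Points.map f ⁻¹' {Points.mk r}) = 0) ∧
    (IsDecent Y → (DiscreteTopology ↥(Points.map f ⁻¹' {Points.mk r}) ↔ DiscreteTopology (Points Xk))) ∧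
    (IsDecent Y → IsDecent X →
      (topologicalKrullDim ↥(Points.map f ⁻¹' {Points.mk r}) = 0 → DiscreteTopology ↥(Points.map f ⁻¹' {Points.mk r})) ∧
        ((Points.map f ⁻¹' {Points.mk r}).Finite → DiscreteTopology ↥(Points.map f ⁻¹' {Points.mk r}))) := by
  have hXk := isAlgSpace_fibre hX hY f r hsq
  have hlft := locP_lft_snd hX hY f hf r hsq
  haveI hne := nonempty_fibre f r hsq hy
  have h1 := fibre_discrete_iff_dim hX hY f hf r hsq hy
  have h2 := dim_eq_zero_iff_qf hX hY f hf r hsq hy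
  -- data from decency of `Y`
  have hdecY : IsDecent Y → ∃ (k₀ : FieldPt Y) (_ : Points.mk k₀ = Points.mk r)
      (_ : RepWith @QuasiCompact k₀.toHom) (_ : Mono k₀.toHom)
      (φ : Points (pullback f k₀.toHom) ≃ₜ ↥(Points.map f ⁻¹' {Points.mk r})),
      ∀ x₀, ((φ x₀ : ↥(Points.map f ⁻¹' {Points.mk r})) : Points X) =
        Points.map (pullback.fst f k₀.toHom) x₀ := by
    intro hYd
    obtain ⟨k₀, hk₀, hmono, hqc⟩ := hYd (Points.mk r)
    haveI := hmono
    obtain ⟨φ, hφ⟩ := exists_homeomorph_fibre hX hY f k₀ hqc (Points.mk r) hk₀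
    exact ⟨k₀, hk₀, hqc, hmono, φ, hφ⟩
  refine ⟨h1, h2, ?_, ?_, ?_, ?_, ?_, ?_, ?_⟩
  · intro hd
    haveI := hd
    exact topDim_eq_zero_of_discrete' _
  · intro hdec h0
    exact discrete_of_topDim_eq_zero snd hlft hXk hdec h0
  · intro hdec hfin
    exact h1.2 (dim_eq_zero_of_finite snd hlft hXk hdec hfin)
  · intro hfin
    rw [← range_map_fst f r hsq]
    exact Set.finite_range _
  · intro hd
    haveI := hd
    obtain ⟨x, hx⟩ := hy
    haveI : Nonempty ↥(Points.map f ⁻¹' {Points.mk r}) := ⟨⟨x, hx⟩⟩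
    exact topDim_eq_zero_of_discrete' _
  · intro hYd
    obtain ⟨k₀, hk₀, hqc, hmono, φ, -⟩ := hdecY hYd
    have hsq₀ := IsPullback.of_hasPullback f k₀.toHom
    have hy₀ : Points.mk k₀ ∈ Set.range (Points.map f) := by rw [hk₀]; exact hy
    rw [discrete_homeomorph φ, fibre_discrete_iff_qf hX hY f hf k₀ hsq₀ hy₀, hk₀,
      ← h2, ← h1]
  · intro hYd hXd
    obtain ⟨k₀, hk₀, hqc, hmono, φ, -⟩ := hdecY hYd
    have hsq₀ := IsPullback.of_hasPullback f k₀.toHom
    have hy₀ : Points.mk k₀ ∈ Set.range (Points.map f) := by rw [hk₀]; exact hy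
    have hX₀ := isAlgSpace_fibre hX hY f k₀ hsq₀
    have hlft₀ := locP_lft_snd hX hY f hf k₀ hsq₀
    haveI := nonempty_fibre f k₀ hsq₀ hy₀
    have hrep : Representable (pullback.fst f k₀.toHom) :=
      MorphismProperty.of_isPullback hsq₀.flip hqc.rep
    have hX₀d : IsDecent (pullback f k₀.toHom) := isDecent_of_representable _ hrep hXd
    constructor
    · intro h0
      rw [topDim_homeomorph φ] at h0
      rw [discrete_homeomorph φ]
      exact discrete_of_topDim_eq_zero _ hlft₀ hX₀ hX₀d h0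
    · intro hfin
      rw [discrete_homeomorph φ]
      haveI : Finite ↥(Points.map f ⁻¹' {Points.mk r}) := hfin
      have hfin₀ : Finite (Points (pullback f k₀.toHom)) := Finite.of_equiv _ φ.symm.toEquiv
      exact (fibre_discrete_iff_dim hX hY f hf k₀ hsq₀ hy₀).2
        (dim_eq_zero_of_finite _ hlft₀ hX₀ hX₀d hfin₀)

end Groth.Agent.Helper19.FibQf
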