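import Groth.Agent.Lib.Helper19.FibQf.Main

/-!
# The list of conditions at a point of a fibre (S10445)
-/

set_option autoImplicit false
set_option linter.style.haveILetI false
universe u
open CategoryTheory CategoryTheory.Limits AlgebraicGeometry MorphismProperty TopologicalSpace
open AlgSp Groth.Agent.Helper15 Groth.Agent.Helper16.AS

namespace Groth.Agent.Helper19.FibQf

open Groth.Agent.Helper14 Groth.Agent.Helper19.FldSp

variable {S : Scheme.{u}} {X Y : Sp S} (hX : IsAlgSpace X) (hY : IsAlgSpace Y) (f : X ⟶ Y)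
  (hf : LocP @LocallyOfFiniteType f)

include hX hY hf in
theorem point_fibre_conditions (r : FieldPt Y)
    {Xk : Sp S} {fst : Xk ⟶ X} {snd : Xk ⟶ (yon S).obj r.pt}
    (hsq : IsPullback fst snd f r.toHom)
    (x : Points X) (hx : x ∈ (Points.map f ⁻¹' {Points.mk r})) (xt : Points Xk)
    (hxt : Points.map fst xt = x) :
    ((IsOpen ({xt} : Set (Points Xk)) ↔
      IsClosed ({xt} : Set (Points Xk)) ∧ ∀ x' : Points Xk, x' ⤳ xt → x' = xt) ∧
    (IsOpen ({xt} : Set (Points Xk)) ↔ HasAt (fun U u => FlatMor.localDim ↥U u = 0) Xk xt) ∧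
    (HasAt (fun U u => FlatMor.localDim ↥U u = 0) Xk xt ↔ HasAtMor (fun U _ h u => ∃ W : U.Opens, u ∈ W ∧ LocallyQuasiFinite (W.ι ≫ h) ∧ LocallyOfFiniteType (W.ι ≫ h)) f x) ∧
    (IsDecent Xk →
      (FlatMor.localDim (Points Xk) xt = 0 ↔ IsOpen ({xt} : Set (Points Xk)))) ∧
    (IsDecent Y →
      (IsOpen ({(⟨x, hx⟩ : ↥(Points.map f ⁻¹' {Points.mk r}))} : Set ↥(Points.map f ⁻¹' {Points.mk r})) ↔ IsOpen ({xt} : Set (Points Xk))) ∧
      ((IsClosed ({(⟨x, hx⟩ : ↥(Points.map f ⁻¹' {Points.mk r}))} : Set ↥(Points.map f ⁻¹' {Points.mk r})) ∧ ∀ x' : ↥(Points.map f ⁻¹' {Points.mk r}), x' ⤳ (⟨x, hx⟩ : ↥(Points.map f ⁻¹' {Points.mk r})) → x' = (⟨x, hx⟩ : ↥(Points.map f ⁻¹' {Points.mk r}))) ↔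
        IsClosed ({xt} : Set (Points Xk)) ∧ ∀ x' : Points Xk, x' ⤳ xt → x' = xt)) ∧
    (IsDecent Y → IsDecent X →
      (FlatMor.localDim ↥(Points.map f ⁻¹' {Points.mk r}) (⟨x, hx⟩ : ↥(Points.map f ⁻¹' {Points.mk r})) = 0 ↔ IsOpen ({(⟨x, hx⟩ : ↥(Points.map f ⁻¹' {Points.mk r}))} : Set ↥(Points.map f ⁻¹' {Points.mk r}))))) := by
  have hXk := isAlgSpace_fibre hX hY f r hsq
  have hlft := locP_lft_snd hX hY f hf r hsq
  have h1 := isOpen_singleton_iff_closed_maximal snd hlft hXk xt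
  have h2 := isOpen_singleton_iff_hasAt_localDim snd hlft hXk xt
  have h3 := hasAt_localDim_iff_qf hX hY f hf r hsq xt
  rw [hxt] at h3
  have h23 := fibre_isOpen_singleton_iff_qf hX hY f hf r hsq xt
  rw [hxt] at h23
  -- data from decency of `Y`
  have hdecY : IsDecent Y → ∃ (k₀ : FieldPt Y) (_ : Points.mk k₀ = Points.mk r)
      (_ : RepWith @QuasiCompact k₀.toHom) (_ : Mono k₀.toHom)
      (φ : Points (pullback f k₀.toHom) ≃ₜ ↥(Points.map f ⁻¹' {Points.mk r}))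
      (x₀ : Points (pullback f k₀.toHom)), φ x₀ = ⟨x, hx⟩ ∧
        Points.map (pullback.fst f k₀.toHom) x₀ = x := by
    intro hYd
    obtain ⟨k₀, hk₀, hmono, hqc⟩ := hYd (Points.mk r)
    haveI := hmono
    obtain ⟨φ, hφ⟩ := exists_homeomorph_fibre hX hY f k₀ hqc (Points.mk r) hk₀
    refine ⟨k₀, hk₀, hqc, hmono, φ, φ.symm ⟨x, hx⟩, φ.apply_symm_apply _, ?_⟩
    rw [← hφ, φ.apply_symm_apply]
  refine ⟨h1, h2, h3, ?_, ?_, ?_⟩
  · intro hdec
    exact localDim_points_eq_zero_iff snd hlft hXk hdec xt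
  · intro hYd
    obtain ⟨k₀, hk₀, hqc, hmono, φ, x₀, hφx₀, hx₀⟩ := hdecY hYd
    have hsq₀ := IsPullback.of_hasPullback f k₀.toHom
    have hX₀ := isAlgSpace_fibre hX hY f k₀ hsq₀
    have hlft₀ := locP_lft_snd hX hY f hf k₀ hsq₀
    have e0 := fibre_isOpen_singleton_iff_qf hX hY f hf k₀ hsq₀ x₀
    rw [hx₀] at e0
    have eopen : IsOpen ({(⟨x, hx⟩ : ↥(Points.map f ⁻¹' {Points.mk r}))} :
        Set ↥(Points.map f ⁻¹' {Points.mk r})) ↔ IsOpen ({xt} : Set (Points Xk)) := by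
      rw [← hφx₀, isOpen_singleton_homeomorph φ x₀, e0, ← h23]
    refine ⟨eopen, ?_⟩
    rw [← h1, ← eopen, ← hφx₀, closed_nogen_homeomorph φ x₀, isOpen_singleton_homeomorph φ x₀]
    exact (isOpen_singleton_iff_closed_maximal _ hlft₀ hX₀ x₀).symm
  · intro hYd hXd
    obtain ⟨k₀, hk₀, hqc, hmono, φ, x₀, hφx₀, hx₀⟩ := hdecY hYd
    have hsq₀ := IsPullback.of_hasPullback f k₀.toHom
    have hX₀ := isAlgSpace_fibre hX hY f k₀ hsq₀
    have hlft₀ := locP_lft_snd hX hY f hf k₀ hsq₀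
    have hrep : Representable (pullback.fst f k₀.toHom) :=
      MorphismProperty.of_isPullback hsq₀.flip hqc.rep
    have hX₀d : IsDecent (pullback f k₀.toHom) := isDecent_of_representable _ hrep hXd
    rw [← hφx₀, localDim_homeomorph φ x₀, isOpen_singleton_homeomorph φ x₀]
    exact localDim_points_eq_zero_iff _ hlft₀ hX₀ hX₀d x₀

end Groth.Agent.Helper19.FibQf
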