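import Groth.Agent.Lib.Helper19.FibQf.Embed

/-!
# Conditions for quasi-finiteness along a fibre: assembly
-/

set_option autoImplicit false
set_option linter.style.haveILetI false
universe u
open CategoryTheory CategoryTheory.Limits AlgebraicGeometry MorphismProperty TopologicalSpace
open AlgSp Groth.Agent.Helper15 Groth.Agent.Helper16.AS

namespace Groth.Agent.Helper19.FibQf

open Groth.Agent.Helper14 Groth.Agent.Helper19.FldSp

section top

variable {A B : Type*} [TopologicalSpace A] [TopologicalSpace B] (φ : A ≃ₜ B)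

theorem isOpen_singleton_homeomorph (a : A) : IsOpen ({φ a} : Set B) ↔ IsOpen ({a} : Set A) := by
  rw [← Set.image_singleton, φ.isOpen_image]

theorem isClosed_singleton_homeomorph (a : A) :
    IsClosed ({φ a} : Set B) ↔ IsClosed ({a} : Set A) := by
  rw [← Set.image_singleton, φ.isClosed_image]

theorem closed_nogen_homeomorph (a : A) :
    (IsClosed ({φ a} : Set B) ∧ ∀ b' : B, b' ⤳ φ a → b' = φ a) ↔
      (IsClosed ({a} : Set A) ∧ ∀ a' : A, a' ⤳ a → a' = a) := by
  rw [isClosed_singleton_homeomorph]
  refine and_congr Iff.rfl ⟨fun h a' ha' => ?_, fun h b' hb' => ?_⟩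
  · exact φ.injective (h (φ a') (ha'.map φ.continuous))
  · obtain ⟨a', rfl⟩ := φ.surjective b'
    rw [h a' (φ.isInducing.specializes_iff.1 hb')]

theorem localDim_homeomorph (a : A) : FlatMor.localDim B (φ a) = FlatMor.localDim A a :=
  FibreChart.localDim_openEmbedding φ φ.isOpenEmbedding a

include φ in
theorem discrete_homeomorph : DiscreteTopology B ↔ DiscreteTopology A :=
  ⟨fun _ => φ.isEmbedding.discreteTopology, fun _ => φ.symm.isEmbedding.discreteTopology⟩

include φ in
theorem topDim_homeomorph : topologicalKrullDim B = topologicalKrullDim A :=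
  (IsHomeomorph.topologicalKrullDim_eq φ φ.isHomeomorph).symm

theorem topDim_eq_zero_of_discrete' (T : Type u) [TopologicalSpace T] [Nonempty T]
    [DiscreteTopology T] : topologicalKrullDim T = 0 :=
  le_antisymm (topologicalKrullDim_zero_of_discreteTopology _) (topDim_nonneg_of_nonempty _)

end top

variable {S : Scheme.{u}} {X Y : Sp S} (hX : IsAlgSpace X) (hY : IsAlgSpace Y) (f : X ⟶ Y)
  (hf : LocP @LocallyOfFiniteType f)

section fibre

variable (k : FieldPt Y) {Xk : Sp S} {fst : Xk ⟶ X} {snd : Xk ⟶ (yon S).obj k.pt}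
  (hsq : IsPullback fst snd f k.toHom)

include hsq in
theorem nonempty_fibre (hy : Points.mk k ∈ Set.range (Points.map f)) : Nonempty (Points Xk) := by
  obtain ⟨x, hx⟩ := hy
  obtain ⟨x', -⟩ := exists_map_fst_eq f k hsq x hx
  exact ⟨x'⟩

include hX hY hf hsq in
/-- (5) ⇔ (7) -/
theorem fibre_discrete_iff_dim (hy : Points.mk k ∈ Set.range (Points.map f)) :
    DiscreteTopology (Points Xk) ↔ AlgSp.dim Xk = 0 := by
  haveI := nonempty_fibre f k hsq hy
  exact discrete_iff_dim_eq_zero snd (locP_lft_snd hX hY f hf k hsq)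
    (isAlgSpace_fibre hX hY f k hsq)

include hX hY hf hsq in
/-- (5) ⇔ (8) -/
theorem fibre_discrete_iff_qf (hy : Points.mk k ∈ Set.range (Points.map f)) :
    DiscreteTopology (Points Xk) ↔
      ∀ x : Points X, Points.map f x = Points.mk k →
        HasAtMor (fun U _ h u => ∃ W : U.Opens, u ∈ W ∧ LocallyQuasiFinite (W.ι ≫ h) ∧
          LocallyOfFiniteType (W.ι ≫ h)) f x := by
  rw [fibre_discrete_iff_dim hX hY f hf k hsq hy, dim_eq_zero_iff_qf hX hY f hf k hsq hy]

include hX hY hf hsq in
/-- (5) ⇔ (8) at a point -/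
theorem fibre_isOpen_singleton_iff_qf (x' : Points Xk) :
    IsOpen ({x'} : Set (Points Xk)) ↔
      HasAtMor (fun U _ h u => ∃ W : U.Opens, u ∈ W ∧ LocallyQuasiFinite (W.ι ≫ h) ∧
        LocallyOfFiniteType (W.ι ≫ h)) f (Points.map fst x') := by
  rw [isOpen_singleton_iff_hasAt_localDim snd (locP_lft_snd hX hY f hf k hsq)
    (isAlgSpace_fibre hX hY f k hsq) x', hasAt_localDim_iff_qf hX hY f hf k hsq x']

end fibre

section decent

variable (k : FieldPt Y) (hqc : RepWith @QuasiCompact k.toHom) [Mono k.toHom]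

include hX hY hqc in
/-- the fibre over a point with a quasi-compact monomorphic representative is homeomorphic to the
space of points of the fibre product -/
theorem exists_homeomorph_fibre (y : Points Y) (hk : Points.mk k = y) :
    ∃ φ : Points (pullback f k.toHom) ≃ₜ ↥(Points.map f ⁻¹' {y}),
      ∀ x₀, ((φ x₀ : ↥(Points.map f ⁻¹' {y})) : Points X) =
        Points.map (pullback.fst f k.toHom) x₀ := by
  subst hk
  have hsq := IsPullback.of_hasPullback f k.toHom
  have hemb := isEmbedding_map_fst hX hY f k hqc hsq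
  have hrange := range_map_fst f k hsq
  refine ⟨hemb.toHomeomorph.trans (Homeomorph.setCongr hrange), fun x₀ => rfl⟩

end decent

end Groth.Agent.Helper19.FibQf
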