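import Groth.Agent.Lib.Helper19.FibQf.Top
import Groth.Agent.Lib.Helper15.AlgSpField

/-!
# Monomorphisms from discrete schemes with field stalks are preimmersions
-/

set_option autoImplicit false
set_option linter.style.haveILetI false
universe u
open CategoryTheory CategoryTheory.Limits AlgebraicGeometry Topology

namespace Groth.Agent.Helper19.FibQf

open Groth.Agent.Helper15

/-- the stalk map of a monomorphism at a point whose local ring is a field is surjective -/
theorem surjective_stalkMap_of_mono_of_isField {E V : Scheme.{u}} (e₂ : E ⟶ V) [Mono e₂] (e : E)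
    (hK : IsField (E.presheaf.stalk e)) : Function.Surjective (e₂.stalkMap e) := by
  letI := hK.toField
  let A : CommRingCat := V.presheaf.stalk (e₂ e)
  let K : CommRingCat := E.presheaf.stalk e
  let φ : A ⟶ K := e₂.stalkMap e
  haveI : IsLocalHom φ.hom := inferInstanceAs (IsLocalHom (e₂.stalkMap e).hom)
  haveI : Mono (Spec.map φ) := by
    have h1 : Spec.map φ ≫ V.fromSpecStalk (e₂ e) = E.fromSpecStalk e ≫ e₂ :=
      Scheme.SpecMap_stalkMap_fromSpecStalk e₂
    haveI : Mono (Spec.map φ ≫ V.fromSpecStalk (e₂ e)) := by rw [h1]; infer_instance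
    exact mono_of_mono _ (V.fromSpecStalk (e₂ e))
  let φbar : IsLocalRing.ResidueField A →+* K := IsLocalRing.ResidueField.lift φ.hom
  have hfac : φbar.comp (IsLocalRing.residue A) = φ.hom := IsLocalRing.ResidueField.lift_comp_residue _
  have hfac' : Spec.map φ = Spec.map (CommRingCat.ofHom φbar) ≫
      Spec.map (CommRingCat.ofHom (IsLocalRing.residue A)) := by
    rw [← Spec.map_comp]
    congr 1
  haveI : Mono (Spec.map (CommRingCat.ofHom φbar) ≫
      Spec.map (CommRingCat.ofHom (IsLocalRing.residue A))) := by rw [← hfac']; infer_instance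
  haveI : Mono (Spec.map (CommRingCat.ofHom φbar)) := mono_of_mono _
    (Spec.map (CommRingCat.ofHom (IsLocalRing.residue A)))
  haveI : Nonempty (Spec K) := ⟨IsLocalRing.closedPoint K⟩
  haveI : IsIso (Spec.map (CommRingCat.ofHom φbar)) :=
    isIso_of_mono_to_field (K := IsLocalRing.ResidueField A) _
  let g : CommRingCat.of ↑K ⟶ CommRingCat.of (IsLocalRing.ResidueField A) :=
    Spec.preimage (inv (Spec.map (CommRingCat.ofHom φbar)))
  have hg : g ≫ CommRingCat.ofHom φbar = 𝟙 _ := by
    apply Spec.map_injective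
    rw [Spec.map_comp, Spec.map_preimage, IsIso.hom_inv_id, Spec.map_id]
  intro x
  obtain ⟨a, ha⟩ := IsLocalRing.residue_surjective (g.hom x)
  refine ⟨a, ?_⟩
  have h2 : φbar (g.hom x) = x := by
    have := congrArg (fun m => m.hom x) hg
    simpa using this
  have h3 : φ.hom a = φbar (IsLocalRing.residue A a) := (RingHom.congr_fun hfac a).symm
  change φ.hom a = x
  rw [h3, ha, h2]

/-- a monomorphism from a scheme whose local rings are fields and whose points are cut out by
open subsets of the target is a preimmersion -/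
theorem isPreimmersion_of_mono_of_isField {E V : Scheme.{u}} (e₂ : E ⟶ V) [Mono e₂]
    (hK : ∀ e : E, IsField (E.presheaf.stalk e))
    (hM : ∀ e : E, ∃ M : Set V, IsOpen M ∧ e₂ ⁻¹' M = {e}) : IsPreimmersion e₂ := by
  haveI : SurjectiveOnStalks e₂ :=
    ⟨fun e => surjective_stalkMap_of_mono_of_isField e₂ e (hK e)⟩
  refine ⟨⟨?_, e₂.injective⟩⟩
  rw [isInducing_iff]
  refine le_antisymm e₂.continuous.le_induced ?_
  intro W _
  rw [isOpen_induced_iff]
  choose M hMo hMe using hM
  refine ⟨⋃ e ∈ W, M e, isOpen_biUnion (fun e _ => hMo e), ?_⟩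
  ext z
  simp only [Set.mem_preimage, Set.mem_iUnion]
  constructor
  · rintro ⟨e, heW, hz⟩
    have : z ∈ e₂ ⁻¹' M e := hz
    rw [hMe e] at this
    rw [Set.mem_singleton_iff] at this
    rw [this]; exact heW
  · intro hz
    refine ⟨z, hz, ?_⟩
    have : z ∈ e₂ ⁻¹' M z := by rw [hMe z]; rfl
    exact this

end Groth.Agent.Helper19.FibQf
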