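import Mathlib

/-!
# Two topological lemmas: descent of inducing maps along open surjections, isolated points of
locally finite subsets without specializations
-/

set_option autoImplicit false
universe u
open Topology

namespace Groth.Agent.Helper19.FibQf

/-- descent of "inducing" along a square whose vertical maps are charts -/
theorem isInducing_of_chart {P₀ P T₀ T : Type*} [TopologicalSpace P₀] [TopologicalSpace P]
    [TopologicalSpace T₀] [TopologicalSpace T]
    (π' : P₀ → P) (α₀ : P₀ → T₀) (α : P → T) (π : T₀ → T)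
    (hcomm : ∀ p₀, π (α₀ p₀) = α (π' p₀))
    (hα₀s : Function.Surjective α₀) (hα₀c : Continuous α₀) (hαo : IsOpenMap α) (hπc : Continuous π)
    (hπ' : IsInducing π')
    (hpb : ∀ t₀ p, π t₀ = α p → ∃ p₀, α₀ p₀ = t₀ ∧ π' p₀ = p) : IsInducing π := by
  rw [isInducing_iff]
  refine le_antisymm hπc.le_induced ?_
  intro W hW
  rw [isOpen_induced_iff]
  have hW' : IsOpen (α₀ ⁻¹' W) := hW.preimage hα₀c
  obtain ⟨O, hO, hOW⟩ := hπ'.isOpen_iff.1 hW'
  refine ⟨α '' O, hαo O hO, ?_⟩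
  ext z
  constructor
  · rintro ⟨p, hpO, hpz⟩
    obtain ⟨p₀, hp₀z, hp₀p⟩ := hpb z p hpz.symm
    have : p₀ ∈ π' ⁻¹' O := by
      change π' p₀ ∈ O
      rw [hp₀p]; exact hpO
    rw [hOW] at this
    have h2 : α₀ p₀ ∈ W := this
    rwa [hp₀z] at h2
  · intro hz
    obtain ⟨p₀, rfl⟩ := hα₀s z
    have : p₀ ∈ π' ⁻¹' O := by rw [hOW]; exact hz
    exact ⟨π' p₀, this, (hcomm p₀).symm⟩

/-- a point of a subset `B` which is locally finite near `v` and has no generizations in `B` is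
isolated in `B` -/
theorem exists_open_inter_eq_singleton {V : Type*} [TopologicalSpace V] (B : Set V) (v : V)
    (hv : v ∈ B) (N : Set V) (hN : IsOpen N) (hvN : v ∈ N) (hfin : (B ∩ N).Finite)
    (hsp : ∀ v' ∈ B, v' ⤳ v → v' = v) : ∃ M : Set V, IsOpen M ∧ v ∈ M ∧ M ∩ B = {v} := by
  classical
  let C : Set V := ⋃ v' ∈ (B ∩ N) \ {v}, closure ({v'} : Set V)
  have hCcl : IsClosed C :=
    (hfin.subset Set.sdiff_subset).isClosed_biUnion (fun _ _ => isClosed_closure)
  have hvC : v ∉ C := by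
    intro hvC
    simp only [C, Set.mem_iUnion] at hvC
    obtain ⟨v', hv', hcl⟩ := hvC
    have hs : v' ⤳ v := specializes_iff_mem_closure.2 hcl
    exact hv'.2 (hsp v' hv'.1.1 hs)
  refine ⟨N ∩ Cᶜ, hN.inter hCcl.isOpen_compl, ⟨hvN, hvC⟩, ?_⟩
  ext w
  simp only [Set.mem_inter_iff, Set.mem_compl_iff, Set.mem_singleton_iff]
  constructor
  · rintro ⟨⟨hwN, hwC⟩, hwB⟩
    by_contra hne
    apply hwC
    simp only [C, Set.mem_iUnion]
    exact ⟨w, ⟨⟨hwB, hwN⟩, hne⟩, subset_closure rfl⟩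
  · rintro rfl
    exact ⟨⟨hvN, hvC⟩, hv⟩

end Groth.Agent.Helper19.FibQf
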